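import Mathlib.RingTheory.GradedAlgebra.HomogeneousLocalization

/-!
# Degree-zero localizations of a graded homomorphism that is bijective in large degrees
-/

set_option autoImplicit false
universe u
open HomogeneousLocalization

namespace K591.AwayBij

variable {R A : Type u} [CommRing R] [CommRing A] [Algebra R A] {𝒜 : ℕ → Submodule R A} [GradedAlgebra 𝒜]
    {B : Type u} [CommRing B] [Algebra R B] {ℬ : ℕ → Submodule R B} [GradedAlgebra ℬ] (ψ : 𝒜 →+*ᵍ ℬ)

/-- If `ψ` is bijective in degrees `≥ d₀` then `A_(f) → B_(ψ f)` is bijective, for `f` homogeneous of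
positive degree. -/
theorem away_map_bijective (d₀ : ℕ) (hbij : ∀ d : ℕ, d₀ ≤ d → Set.BijOn ψ (𝒜 d) (ℬ d))
    {d : ℕ} (hd : 0 < d) {f : A} (hf : f ∈ 𝒜 d) :
    Function.Bijective (HomogeneousLocalization.Away.map ψ f) := by
  constructor
  · rw [injective_iff_map_eq_zero]
    intro x hx
    obtain ⟨k, a, ha, rfl⟩ := HomogeneousLocalization.Away.mk_surjective 𝒜 hf x
    rw [HomogeneousLocalization.Away.map_mk] at hx
    have hx' := congrArg HomogeneousLocalization.val hx
    rw [HomogeneousLocalization.Away.val_mk, HomogeneousLocalization.val_zero,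
      Localization.mk_eq_mk', IsLocalization.mk'_eq_zero_iff] at hx'
    obtain ⟨⟨_, m, rfl⟩, hm⟩ := hx'
    simp only at hm
    have ha2 : f ^ (m + d₀) * a ∈ 𝒜 ((m + d₀) * d + k * d) := by
      have h1 := SetLike.pow_mem_graded (m + d₀) hf
      rw [smul_eq_mul] at h1
      rw [smul_eq_mul] at ha
      exact SetLike.mul_mem_graded h1 ha
    have hle : d₀ ≤ (m + d₀) * d + k * d := by nlinarith
    have h0 : f ^ (m + d₀) * a = 0 := by
      apply (hbij _ hle).injOn ha2 (Submodule.zero_mem _)
      rw [map_mul, map_pow, map_zero, pow_add, mul_assoc, mul_comm (ψ f ^ d₀), ← mul_assoc, hm, zero_mul]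
    apply HomogeneousLocalization.val_injective
    rw [HomogeneousLocalization.Away.val_mk, HomogeneousLocalization.val_zero,
      Localization.mk_eq_mk', IsLocalization.mk'_eq_zero_iff]
    exact ⟨⟨_, m + d₀, rfl⟩, h0⟩
  · intro y
    obtain ⟨k, b, hb, rfl⟩ := HomogeneousLocalization.Away.mk_surjective ℬ (ψ.2 hf) y
    have hb2 : ψ f ^ d₀ * b ∈ ℬ ((d₀ + k) * d) := by
      have h1 := SetLike.pow_mem_graded d₀ (ψ.2 hf)
      rw [smul_eq_mul] at h1
      rw [smul_eq_mul] at hb
      rw [add_mul]
      exact SetLike.mul_mem_graded h1 hb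
    have hle : d₀ ≤ (d₀ + k) * d := by nlinarith
    obtain ⟨a, ha, hab⟩ := (hbij _ hle).surjOn hb2
    refine ⟨HomogeneousLocalization.Away.mk 𝒜 hf (d₀ + k) a (by rw [smul_eq_mul]; exact ha), ?_⟩
    rw [HomogeneousLocalization.Away.map_mk]
    apply HomogeneousLocalization.val_injective
    rw [HomogeneousLocalization.Away.val_mk, HomogeneousLocalization.Away.val_mk,
      Localization.mk_eq_mk_iff, Localization.r_iff_exists]
    refine ⟨1, ?_⟩
    simp only [OneMemClass.coe_one, one_mul]
    change ψ f ^ k * ψ a = ψ f ^ (d₀ + k) * b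
    rw [hab, pow_add]
    ring

end K591.AwayBij
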