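import Groth.Agent.Krr.H484.FreeSec
import Groth.Agent.Ega2.GlobGenCrit
import Groth.Agent.Dcoh.FreeSec
import Groth.Agent.PerfB.TensInv
import Groth.Agent.PerfA.QCohSerre
import Groth.Agent.Fdesc.SkyKernel

/-!
# The kernel of `O^n → L`, twisted by `L`, is globally generated
-/

set_option autoImplicit false
universe u

open CategoryTheory CategoryTheory.Limits AlgebraicGeometry TopologicalSpace Opposite
open Groth.Agent.Fdesc.LocGen

namespace K591.KerGG

open Groth.Agent Groth.Agent.Krr.H484.FreeSec Groth.Agent.Ega2.TensGen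

variable {X : Scheme.{u}} {L : X.Modules} (hL : PicF.IsInvertible L)

theorem pullSec_id {Y : Scheme.{u}} {N : Y.Modules} {U : Y.Opens} (m : Γ(N, U)) :
    ((Scheme.Modules.pullbackId Y).hom.app N).app U (pullSec (𝟙 Y) m) = m := by
  have h := unit_conjugateEquiv .id (Scheme.Modules.pullbackPushforwardAdjunction (𝟙 Y))
    (Scheme.Modules.pullbackId Y).hom N
  rw [Scheme.Modules.conjugateEquiv_pullbackId_hom] at h
  exact congr(($(h).app U) m).symm

include hL in
theorem iSup_genLocus {n : ℕ} (s : Fin n → (Coh.structureModule X ⟶ L))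
    (hs : Epi (Sigma.desc s : FlatMod.freeMod X n ⟶ L)) : ⨆ i, CohB1.genLocus L (s i) = ⊤ := by
  let ψ := (Scheme.Modules.pullbackId X).hom.app (FlatMod.freeMod X n) ≫ (Sigma.desc s : FlatMod.freeMod X n ⟶ L)
  have hψ : Epi ψ := epi_comp _ _
  have h := genLocus_of_epi (𝟙 X) hL ψ
  rw [← h]
  congr 1
  funext j
  congr 1
  apply hom_ext_sec
  rw [sec_homOf]
  have h1 : secs (𝟙 X) ψ j = (Sigma.desc s : FlatMod.freeMod X n ⟶ L).app ⊤ (bas X n j) :=
    congrArg ((Sigma.desc s : FlatMod.freeMod X n ⟶ L).app ⊤) (pullSec_id (U := ⊤) (bas X n j))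
  have h2 : (Sigma.desc s : FlatMod.freeMod X n ⟶ L).app ⊤ (bas X n j) = sec (s j) ⊤ := by
    have h3 : Sigma.ι (fun _ : Fin n => Coh.structureModule X) j ≫ (Sigma.desc s : FlatMod.freeMod X n ⟶ L) = s j :=
      Sigma.ι_desc _ _
    refine Eq.trans ?_ (congrArg (fun q => sec q ⊤) h3)
    rfl
  rw [h1, h2]
  simp

include hL in
theorem tmul_comm {U : X.Opens} (a b : Γ(L, U)) : tmul (M := L) (N := L) a b = tmul b a := by
  choose V e hx he using (isInvertible_iff L).mp hL
  refine res_ext _ (fun x : U => U ⊓ V x.1) (fun x => inf_le_left)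
    (fun x hxU => Opens.mem_iSup.mpr ⟨⟨x, hxU⟩, ⟨hxU, hx x⟩⟩) (fun x => ?_)
  rw [res_tmul, res_tmul]
  obtain ⟨α, hα⟩ := ((he x.1).res inf_le_right).exists_eq (res L (inf_le_left : U ⊓ V x.1 ≤ U) a)
  obtain ⟨β, hβ⟩ := ((he x.1).res inf_le_right).exists_eq (res L (inf_le_left : U ⊓ V x.1 ≤ U) b)
  rw [hα, hβ, smul_tmul, tmul_smul, smul_tmul, tmul_smul, smul_comm]

/-- The value of the basis section on an open. -/
noncomputable def bs (X : Scheme.{u}) (n : ℕ) (V : X.Opens) (j : Fin n) : Γ(FlatMod.freeMod X n, V) :=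
  sec (Sigma.ι (fun _ : Fin n => Coh.structureModule X) j) V

theorem sum_app {M N : X.Modules} {ι : Type*} (s : Finset ι) (φ : ι → (M ⟶ N)) (W : X.Opens)
    (x : Γ(M, W)) : (∑ i ∈ s, φ i).app W x = ∑ i ∈ s, (φ i).app W x := by
  classical
  induction s using Finset.induction_on with
  | empty => simp only [Finset.sum_empty]; rfl
  | insert a s ha ih =>
    rw [Finset.sum_insert ha, Finset.sum_insert ha, ← ih]
    rfl

theorem sum_bs {n : ℕ} {V : X.Opens} (t : Γ(FlatMod.freeMod X n, V)) :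
    ∃ a : Fin n → Γ(X, V), t = ∑ j, a j • bs X n V j := by
  refine ⟨fun j => ofFun.symm ((Dcoh.FreeSec.pr X j).app V t), ?_⟩
  have h1 := congrArg (fun q : FlatMod.freeMod X n ⟶ FlatMod.freeMod X n => q.app V t)
    (Dcoh.FreeSec.sum_pr_ι (X := X) (n := n))
  dsimp only at h1
  rw [sum_app] at h1
  refine h1.symm.trans ?_
  refine Finset.sum_congr rfl fun j _ => ?_
  exact app_ofFun (Sigma.ι (fun _ : Fin n => Coh.structureModule X) j) _

theorem app_bs {n : ℕ} (s : Fin n → (Coh.structureModule X ⟶ L)) (V : X.Opens) (j : Fin n) :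
    (Sigma.desc s : FlatMod.freeMod X n ⟶ L).app V (bs X n V j) = sec (s j) V := by
  have h3 : Sigma.ι (fun _ : Fin n => Coh.structureModule X) j ≫ (Sigma.desc s : FlatMod.freeMod X n ⟶ L) = s j :=
    Sigma.ι_desc _ _
  exact congrArg (fun q => sec q V) h3

section main

variable {n : ℕ} (s : Fin n → (Coh.structureModule X ⟶ L))

/-- The map `O^n ⊗ L ⟶ L ⊗ L`. -/
noncomputable abbrev q : CohB1.tensorMod (FlatMod.freeMod X n) L ⟶ CohB1.tensorMod L L :=
  (DCoh.tensorRightMod L).map (Sigma.desc s : FlatMod.freeMod X n ⟶ L)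

theorem q_tmul {V : X.Opens} (m : Γ(FlatMod.freeMod X n, V)) (l : Γ(L, V)) :
    (q s).app V (tmul m l) = tmul ((Sigma.desc s : FlatMod.freeMod X n ⟶ L).app V m) l :=
  PerfB.TensExact.tensorRightMod_map_tmul L _ V m l

include hL in
theorem exists_kos (i k : Fin n) : ∃ κ : Γ(kernel (q s), ⊤),
    (kernel.ι (q s)).app ⊤ κ = tmul (bs X n ⊤ k) (sec (s i) ⊤) - tmul (bs X n ⊤ i) (sec (s k) ⊤) := by
  rw [Fdesc.SkyKernel.exists_ker_iff, map_sub, q_tmul, q_tmul, app_bs, app_bs, tmul_comm hL, sub_self]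

include hL in
theorem span_eq_top (i : Fin n) (V : X.Opens) (hV : V ≤ CohB1.genLocus L (s i)) :
    Submodule.span Γ(X, V) (Set.range (res (kernel (q s)) (le_top : V ≤ ⊤))) = ⊤ := by
  rw [eq_top_iff]
  rintro k -
  have he : IsGen (sec (s i) V) := (le_genLocus_iff _ _).mp hV
  obtain ⟨t, ht⟩ := exists_eq_tmul he ((kernel.ι (q s)).app V k)
  have h0 : (Sigma.desc s : FlatMod.freeMod X n ⟶ L).app V t = 0 := by
    apply tmul_gen_eq_zero he
    rw [← q_tmul, ← ht]
    exact (Fdesc.SkyKernel.exists_ker_iff (q s) V _).mp ⟨k, rfl⟩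
  obtain ⟨a, ha⟩ := sum_bs t
  choose κ hκ using exists_kos hL s i
  have hk : k = ∑ j, a j • res (kernel (q s)) (le_top : V ≤ ⊤) (κ j) := by
    apply Fdesc.SkyKernel.ker_app_injective
    rw [map_sum]
    have h1 : ∀ j, (kernel.ι (q s)).app V (a j • res (kernel (q s)) (le_top : V ≤ ⊤) (κ j)) =
        tmul (a j • bs X n V j) (sec (s i) V) - tmul (bs X n V i) (a j • sec (s j) V) := by
      intro j
      rw [Scheme.Modules.Hom.app_smul, app_res, hκ, map_sub, res_tmul, res_tmul]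
      have e1 : ∀ l, res _ (le_top : V ≤ ⊤) (bs X n ⊤ l) = bs X n V l := fun l => res_sec _ _
      rw [e1, e1, res_sec, res_sec, smul_sub, smul_tmul, tmul_smul]
    have h2 : ∑ j, tmul (a j • bs X n V j) (sec (s i) V) = tmul t (sec (s i) V) := by
      rw [ha]
      exact (map_sum ((Ega2.Tens.tmulHom (FlatMod.freeMod X n) L V).flip (sec (s i) V)) _ _).symm
    have h3 : ∑ j, tmul (bs X n V i) (a j • sec (s j) V) = 0 := by
      have h4 : ∑ j, a j • sec (s j) V = 0 := by
        rw [← h0, ha, map_sum]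
        refine Finset.sum_congr rfl fun j _ => ?_
        rw [Scheme.Modules.Hom.app_smul, app_bs]
      refine (map_sum (Ega2.Tens.tmulHom (FlatMod.freeMod X n) L V (bs X n V i)) _ _).symm.trans ?_
      rw [h4, map_zero]
    rw [Finset.sum_congr rfl fun j _ => h1 j, Finset.sum_sub_distrib, h2, h3, sub_zero, ht]
  rw [hk]
  exact Submodule.sum_mem _ fun j _ => Submodule.smul_mem _ _ (Submodule.subset_span ⟨κ j, rfl⟩)

include hL in
/-- The kernel of `O^n ⟶ L`, twisted by `L`, is globally generated. -/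
theorem isGloballyGenerated (hs : Epi (Sigma.desc s : FlatMod.freeMod X n ⟶ L)) :
    Curv2.IsGloballyGenerated (CohB1.tensorMod (kernel (Sigma.desc s : FlatMod.freeMod X n ⟶ L)) L) := by
  have hlim := PerfB.TensInv.preservesFiniteLimits_of_isInvertible hL
  let e : CohB1.tensorMod (kernel (Sigma.desc s : FlatMod.freeMod X n ⟶ L)) L ≅ kernel (q s) :=
    PreservesKernel.iso (DCoh.tensorRightMod L) (Sigma.desc s : FlatMod.freeMod X n ⟶ L)
  refine Ega2.GlobGenCrit.isGloballyGenerated_of_iso e.symm ?_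
  have hQL : Coh.IsQCoh L := PerfB.TensInv.isQCoh_of_isInvertible hL
  have hQF : Coh.IsQCoh (FlatMod.freeMod X n) := Ega2.QCohLocal.isQCoh_freeMod X n
  have hQK : Coh.IsQCoh (kernel (q s)) :=
    PerfA.QCohSerre.isQCoh_kernel _ (Ega2.TensGen.isQCoh_tensor hQF hL) (Ega2.TensGen.isQCoh_tensor hQL hL)
  have hcov := iSup_genLocus hL s hs
  refine Ega2.GlobGenCrit.isGloballyGenerated_of_span hQK
    (ι := Σ i : Fin n, {V : X.Opens // IsAffineOpen V ∧ V ≤ CohB1.genLocus L (s i)})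
    (fun c => c.2.1) (fun c => c.2.2.1) ?_ (fun c => span_eq_top hL s c.1 c.2.1 c.2.2.2)
  rw [eq_top_iff]
  intro x _
  have hx : x ∈ ⨆ i, CohB1.genLocus L (s i) := by rw [hcov]; trivial
  obtain ⟨i, hi⟩ := Opens.mem_iSup.mp hx
  obtain ⟨_, ⟨V, hV, rfl⟩, hxV, hVU⟩ :=
    X.isBasis_affineOpens.exists_subset_of_mem_open (show x ∈ (CohB1.genLocus L (s i) : Set X) from hi)
      (CohB1.genLocus L (s i)).2
  exact Opens.mem_iSup.mpr ⟨⟨i, V, hV, hVU⟩, hxV⟩

end main

end K591.KerGG
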