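import Groth.Agent.Constr.K591.TwistComap
import Groth.Agent.Constr.K591.OpenUniv
import Mathlib.AlgebraicGeometry.Morphisms.OpenImmersion

/-!
# Graded homomorphisms that are bijective up to powers of homogeneous elements: open immersions of `Proj`
-/

set_option autoImplicit false
universe u

open CategoryTheory CategoryTheory.Limits AlgebraicGeometry TopologicalSpace Opposite TopCat
open scoped HomogeneousIdeal
open HomogeneousLocalization

namespace K591.ProjOpen

variable {A σ : Type u} [CommRing A] [SetLike σ A] [AddSubgroupClass σ A] {𝒜 : ℕ → σ} [GradedRing 𝒜]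
variable {B τ : Type u} [CommRing B] [SetLike τ B] [AddSubgroupClass τ B] {ℬ : ℕ → τ} [GradedRing ℬ]
variable (ψ : 𝒜 →+*ᵍ ℬ)

/-- `ψ` is bijective up to powers of `f`. -/
structure FBij (f : A) (d : ℕ) : Prop where
  lift : ∀ (i : ℕ) (b : B), b ∈ ℬ i → ∃ (k : ℕ) (a : A), a ∈ 𝒜 (k * d + i) ∧ ψ a = ψ f ^ k * b
  kill : ∀ (i : ℕ) (a : A), a ∈ 𝒜 i → ψ a = 0 → ∃ k : ℕ, f ^ k * a = 0

variable {ψ}

theorem FBij.locBij {f : A} {d : ℕ} (H : FBij ψ f d) (hf : f ∈ 𝒜 d) (y : ProjectiveSpectrum ℬ)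
    (hy : ψ f ∉ y.asHomogeneousIdeal.toIdeal) : TwistComap.LocBij ψ y where
  lift i b hb := by
    obtain ⟨k, a, ha, h⟩ := H.lift i b hb
    refine ⟨k * d, f ^ k, a, ?_, ?_, ha, by rw [map_pow]; exact h⟩
    · have := SetLike.pow_mem_graded k hf
      rwa [smul_eq_mul] at this
    · rw [map_pow]
      exact fun hm => hy (y.isPrime.mem_of_pow_mem _ hm)
  kill i a ha h0 := by
    obtain ⟨k, h⟩ := H.kill i a ha h0
    refine ⟨k * d, f ^ k, ?_, ?_, h⟩
    · have := SetLike.pow_mem_graded k hf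
      rwa [smul_eq_mul] at this
    · rw [map_pow]
      exact fun hm => hy (y.isPrime.mem_of_pow_mem _ hm)

theorem away_map_bijective {f : A} {d : ℕ} (hf : f ∈ 𝒜 d) (H : FBij ψ f d) :
    Function.Bijective (HomogeneousLocalization.Away.map ψ f) := by
  constructor
  · rw [injective_iff_map_eq_zero]
    intro x hx
    obtain ⟨k, a, ha, rfl⟩ := HomogeneousLocalization.Away.mk_surjective 𝒜 hf x
    rw [HomogeneousLocalization.Away.map_mk] at hx
    have hx' := congrArg HomogeneousLocalization.val hx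
    rw [HomogeneousLocalization.Away.val_mk, HomogeneousLocalization.val_zero,
      Localization.mk_eq_mk', IsLocalization.mk'_eq_zero_iff] at hx'
    obtain ⟨⟨_, m, rfl⟩, hm⟩ := hx'
    have hm' : ψ (f ^ m * a) = 0 := by
      rw [map_mul, map_pow]
      exact hm
    obtain ⟨k', h⟩ := H.kill (m * d + k * d) (f ^ m * a) (by
      have h1 := SetLike.pow_mem_graded m hf
      rw [smul_eq_mul] at h1 ha
      exact SetLike.mul_mem_graded h1 ha) hm'
    apply HomogeneousLocalization.val_injective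
    rw [HomogeneousLocalization.Away.val_mk, HomogeneousLocalization.val_zero,
      Localization.mk_eq_mk', IsLocalization.mk'_eq_zero_iff]
    exact ⟨⟨_, k' + m, rfl⟩, by
      change f ^ (k' + m) * a = 0
      rw [pow_add, mul_assoc, h]⟩
  · intro y
    obtain ⟨k, b, hb, rfl⟩ := HomogeneousLocalization.Away.mk_surjective ℬ (ψ.2 hf) y
    obtain ⟨k', a, ha, hab⟩ := H.lift _ b hb
    rw [smul_eq_mul, ← add_mul] at ha
    refine ⟨HomogeneousLocalization.Away.mk 𝒜 hf (k' + k) a (by rw [smul_eq_mul]; exact ha), ?_⟩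
    rw [HomogeneousLocalization.Away.map_mk]
    apply HomogeneousLocalization.val_injective
    rw [HomogeneousLocalization.Away.val_mk, HomogeneousLocalization.Away.val_mk,
      Localization.mk_eq_mk_iff, Localization.r_iff_exists]
    refine ⟨1, ?_⟩
    simp only [OneMemClass.coe_one, one_mul]
    change ψ f ^ k * ψ a = ψ f ^ (k' + k) * b
    rw [hab, pow_add]
    ring

variable (hψ : ℬ₊ ≤ (𝒜₊).map ψ)

theorem comap_injective (H : ∀ y : ProjectiveSpectrum ℬ, TwistComap.LocBij ψ y) :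
    Function.Injective (ProjectiveSpectrum.comap ψ hψ) := by
  intro y y' hyy'
  apply ProjectiveSpectrum.ext
  apply HomogeneousIdeal.ext'
  have key : ∀ a : A, ψ a ∈ y.asHomogeneousIdeal.toIdeal ↔ ψ a ∈ y'.asHomogeneousIdeal.toIdeal := by
    intro a
    have h := congrArg (fun z : ProjectiveSpectrum 𝒜 => a ∈ z.asHomogeneousIdeal.toIdeal) hyy'
    exact iff_of_eq h
  intro i b hb
  constructor
  · intro h
    obtain ⟨m, h', a, hh', hh'y, ha, hab⟩ := (H y').lift i b hb
    have h1 : ψ a ∈ y.asHomogeneousIdeal.toIdeal := by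
      rw [hab]; exact Ideal.mul_mem_left _ _ h
    rw [key, hab] at h1
    exact (y'.isPrime.mem_or_mem h1).resolve_left hh'y
  · intro h
    obtain ⟨m, h', a, hh', hh'y, ha, hab⟩ := (H y).lift i b hb
    have h1 : ψ a ∈ y'.asHomogeneousIdeal.toIdeal := by
      rw [hab]; exact Ideal.mul_mem_left _ _ h
    rw [← key, hab] at h1
    exact (y.isPrime.mem_or_mem h1).resolve_left hh'y

/-- `ψ` is bijective up to powers of homogeneous elements `f` of positive degree such that the `D_+(ψ f)` cover. -/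
def Cov (ψ : 𝒜 →+*ᵍ ℬ) : Prop := ∀ y : ProjectiveSpectrum ℬ, ∃ (f : A) (d : ℕ) (_ : 0 < d) (_ : f ∈ 𝒜 d),
  FBij ψ f d ∧ ψ f ∉ y.asHomogeneousIdeal.toIdeal

theorem Cov.locBij (H : Cov ψ) (y : ProjectiveSpectrum ℬ) : TwistComap.LocBij ψ y := by
  obtain ⟨f, d, hd, hf, h, hfy⟩ := H y
  exact h.locBij hf y hfy

theorem isIso_specMap {f : A} {d : ℕ} (hf : f ∈ 𝒜 d) (H : FBij ψ f d) :
    IsIso (Spec.map (CommRingCat.ofHom (HomogeneousLocalization.Away.map ψ f))) := by
  have h2 : IsIso (CommRingCat.ofHom (HomogeneousLocalization.Away.map ψ f)) :=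
    (ConcreteCategory.isIso_iff_bijective _).mpr (away_map_bijective hf H)
  infer_instance

theorem Cov.isOpenImmersion (H : Cov ψ) : IsOpenImmersion (Proj.map ψ hψ) := by
  refine IsOpenImmersion.of_forall_source_exists _ (comap_injective hψ H.locBij) (fun y => ?_)
  obtain ⟨f, d, hd, hf, h, hfy⟩ := H y
  refine ⟨_, Proj.awayι ℬ (ψ f) (ψ.2 hf) hd, inferInstance, ?_, ?_⟩
  · rw [Proj.opensRange_awayι]
    exact hfy
  · rw [Proj.awayι_comp_map ψ hψ hd f hf]
    have := isIso_specMap hf h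
    infer_instance

/-- The image contains `D_+(f)`. -/
theorem basicOpen_subset_range {f : A} {d : ℕ} (hd : 0 < d) (hf : f ∈ 𝒜 d) (H : FBij ψ f d) :
    (Proj.basicOpen 𝒜 f : Set (Proj 𝒜)) ⊆ Set.range (Proj.map ψ hψ).base := by
  intro x hx
  have h1 : x ∈ (Proj.awayι 𝒜 f hf hd).opensRange := by
    rw [Proj.opensRange_awayι]; exact hx
  obtain ⟨z, rfl⟩ := h1
  have := isIso_specMap hf H
  obtain ⟨w, rfl⟩ : ∃ w, (Spec.map (CommRingCat.ofHom (HomogeneousLocalization.Away.map ψ f))).base w = z :=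
    (Spec.map (CommRingCat.ofHom (HomogeneousLocalization.Away.map ψ f))).surjective z
  refine ⟨(Proj.awayι ℬ (ψ f) (ψ.2 hf) hd).base w, ?_⟩
  have h3 := congrArg (fun g : Spec (CommRingCat.of (Away ℬ (ψ f))) ⟶ Proj 𝒜 => g.base w)
    (Proj.awayι_comp_map ψ hψ hd f hf)
  exact h3

/-- The adjunct `r^* O(n) ⟶ O(n)` is an isomorphism. -/
theorem Cov.isIso_adjunct (H : Cov ψ) (n : ℤ) :
    IsIso (((Scheme.Modules.pullbackPushforwardAdjunction (Proj.map ψ hψ)).homEquiv _ _).symm
        (GrTwist.comap ψ hψ n)) := by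
  have := H.isOpenImmersion hψ
  refine OpenUniv.isIso_of_bijective (Proj.map ψ hψ) (GrTwist.comap ψ hψ n) (fun V => ?_)
  refine TwistComap.app_bijective hψ (comap_injective hψ H.locBij) ?_ H.locBij n _ ?_
  · exact (Proj.map ψ hψ).isOpenEmbedding.isOpenMap
  · rintro x ⟨y, -, rfl⟩
    exact ⟨y, rfl⟩

end K591.ProjOpen
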