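import Groth.Agent.Ega2.H291.ProjClosed
import Groth.Agent.Ega2.TwistBasic
import Groth.Agent.Fdesc.LocGenPullback
import Groth.Prelude.Def_ProjUP

/-!
# Closed subschemes of projective space and the forms vanishing on them
-/

set_option autoImplicit false
universe u

open CategoryTheory CategoryTheory.Limits AlgebraicGeometry TopologicalSpace Opposite

namespace K591.ProjQuot

open Groth.Agent Groth.Agent.Fdesc.LocGen
open Groth.Agent.FormalB.TwistFrac Groth.Agent.FormalB.TildeOfPres Groth.Agent.FormalB.TwistExt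
open Groth.Agent.FormalB.GrTildeSect
open Groth.Agent.Ega2.H291.QuotGr Groth.Agent.Ega2.H291.ProjClosed

variable {R A : Type u} [CommRing R] [CommRing A] [Algebra R A] {𝒜 : ℕ → Submodule R A} [GradedAlgebra 𝒜]

/-- The section `f ^ d` of `O(d)` over `D_+(f)`. -/
noncomputable def powSec (f : A) (hf : f ∈ 𝒜 1) (d : ℕ) : Γ(Twist.twist 𝒜 (d : ℤ), (chart f hf).1) :=
  tfrac (d : ℤ) _ (s := 1) SetLike.GradedOne.one_mem (NV.one _) (a := f ^ d)
    (mem_zdeg_of_eq (by simp) (pow_mem_one hf d))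

theorem isGen_powSec (f : A) (hf : f ∈ 𝒜 1) (d : ℕ) : IsGen (powSec f hf d) := by
  have h := Ega2.TwistBasic.isGen_fracSec (𝒜 := 𝒜) (d : ℤ) (i := d) (j := 0) ⟨f ^ d, pow_mem_one hf d⟩
    ⟨1, SetLike.GradedOne.one_mem⟩ (by simp) (chart f hf).1 (NV.one _) ((NV.basicOpen f).pow d)
  exact h

/-- The global section of `O(d)` attached to a form. -/
noncomputable def gl {d : ℕ} {a : A} (ha : a ∈ 𝒜 d) : Γ(Twist.twist 𝒜 (d : ℤ), ⊤) :=
  Twist.globalOf 𝒜 ⟨a, ha⟩

theorem res_gl (f : A) (hf : f ∈ 𝒜 1) {d : ℕ} {a : A} (ha : a ∈ 𝒜 d) :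
    res (Twist.twist 𝒜 (d : ℤ)) (le_top : (chart f hf).1 ≤ ⊤) (gl ha) = fr f hf ha • powSec f hf d := by
  apply tval_ext
  intro x
  have h1 : tval (fr f hf ha • powSec f hf d) x = oval (fr f hf ha) x * tval (powSec f hf d) x := tval_smul _ _ _
  rw [h1]
  change Localization.mk a _ = Localization.mk a _ * Localization.mk (f ^ d) _
  rw [Localization.mk_mul, Localization.mk_eq_mk_iff, Localization.r_iff_exists]
  refine ⟨1, ?_⟩
  simp
  ring

variable {ι : Type*} (f : ι → A) (hf : ∀ i, f i ∈ 𝒜 1)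
  (hcov : (HomogeneousIdeal.irrelevant 𝒜).toIdeal ≤ Ideal.span (Set.range f))

include hcov in
/-- A form vanishes on `Z` iff the corresponding functions on the charts do. -/
theorem pullSec_eq_zero_iff {Z : Scheme.{u}} (i : Z ⟶ Proj 𝒜) [QuasiCompact i] {d : ℕ} {a : A} (ha : a ∈ 𝒜 d) :
    pullSec i (gl ha) = 0 ↔ Cond f hf i.ker ha := by
  have key : ∀ j, res ((Scheme.Modules.pullback i).obj (Twist.twist 𝒜 (d : ℤ)))
      (i.preimage_mono (le_top : (chart (f j) (hf j)).1 ≤ ⊤)) (pullSec i (gl ha)) = 0 ↔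
        fr (f j) (hf j) ha ∈ i.ker.ideal (chart (f j) (hf j)) := by
    intro j
    have h1 := res_pullSec i (M := Twist.twist 𝒜 (d : ℤ)) (le_top : (chart (f j) (hf j)).1 ≤ ⊤) (gl ha)
    rw [h1, res_gl (f j) (hf j) ha, pullSec_smul, Scheme.Hom.ker_apply, RingHom.mem_ker]
    have hg := (isGen_powSec (f j) (hf j) d).pullSec i
    constructor
    · intro h
      exact hg.ext (h.trans (zero_smul _ _).symm)
    · intro h
      exact (congrArg (· • pullSec i (powSec (f j) (hf j) d)) h).trans (zero_smul _ _)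
  constructor
  · intro h j
    rw [← key j, h, map_zero]
  · intro h
    refine res_ext _ (fun j => i ⁻¹ᵁ (chart (f j) (hf j)).1) (fun j => i.preimage_mono le_top) ?_ (fun j => ?_)
    · rw [← Scheme.Hom.preimage_iSup]
      exact i.preimage_mono (Proj.iSup_basicOpen_eq_top 𝒜 f hcov).ge
    · rw [map_zero]
      exact (key j).mpr (h j)

variable [Finite ι] {B : Type u} [CommRing B] [Algebra R B] {ℬ : ℕ → Submodule R B} [GradedAlgebra ℬ]
  (φ : 𝒜 →+*ᵍ ℬ) (hφs : Function.Surjective φ)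
  (hφ : HomogeneousIdeal.irrelevant ℬ ≤ (HomogeneousIdeal.irrelevant 𝒜).map φ)

omit [Finite ι] in
include hφs in
theorem degSurj : Groth.Agent.Sga5.ProjSurj.DegSurj φ := by
  intro n b hb
  obtain ⟨a, rfl⟩ := hφs b
  refine ⟨DirectSum.decompose 𝒜 a n, SetLike.coe_mem _, ?_⟩
  rw [GradedRingHom.map_directSumDecompose]
  exact DirectSum.decompose_of_mem_same ℬ hb

include hf hcov in
theorem ker_map {Z : Scheme.{u}} (i : Z ⟶ Proj 𝒜) [QuasiCompact i] [QuasiCompact (Proj.map φ hφ)]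
    (hker : ∀ (d : ℕ) (a : A) (ha : a ∈ 𝒜 d), φ a = 0 ↔ pullSec i (gl ha) = 0) :
    (Proj.map φ hφ).ker = i.ker := by
  refine Scheme.IdealSheafData.ext_of_iSup_eq_top (fun i => chart (f i) (hf i))
    (Proj.iSup_basicOpen_eq_top 𝒜 f hcov) fun j => ?_
  rw [Scheme.Hom.ker_apply]
  ext x
  obtain ⟨d, a, ha, rfl⟩ := exists_fr (f j) (hf j) x
  rw [RingHom.mem_ker]
  refine (map_app_fr_eq_zero_iff φ hφ (f j) (hf j) ha).trans ?_
  rw [← exists_pow_mul_mem_idl_iff f hf i.ker j ha]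
  refine exists_congr fun N => ?_
  have hmem := SetLike.mul_mem_graded (pow_mem_one (hf j) N) ha
  rw [hker _ _ hmem, pullSec_eq_zero_iff f hf hcov, mem_idl_iff_of_mem f hf i.ker hmem]

include hf hcov hφs in
theorem exists_iso {Z : Scheme.{u}} (i : Z ⟶ Proj 𝒜) [IsClosedImmersion i]
    (hker : ∀ (d : ℕ) (a : A) (ha : a ∈ 𝒜 d), φ a = 0 ↔ pullSec i (gl ha) = 0) :
    ∃ e : Z ≅ Proj ℬ, e.hom ≫ Proj.map φ hφ = i := by
  have hcl : IsClosedImmersion (Proj.map φ hφ) :=
    Groth.Agent.Sga5.ProjSurj.isClosedImmersion_map _ (degSurj φ hφs)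
  have h := ker_map f hf hcov φ hφ i hker
  have := IsClosedImmersion.isIso_lift (Proj.map φ hφ) i h
  exact ⟨asIso (IsClosedImmersion.lift (Proj.map φ hφ) i h.le), IsClosedImmersion.lift_fac _ _ _⟩

end K591.ProjQuot
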