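import Groth.Agent.Ega3B.TensRestrict

/-!
# When a bilinear map induces an isomorphism `(M ⊗ N)|_W ≅ K|_W`
-/

set_option autoImplicit false
universe u

open CategoryTheory CategoryTheory.Limits AlgebraicGeometry TopologicalSpace Opposite TopCat

namespace K591.TensOpen

open Groth.Agent.Ega2

lemma bijective_lift {R M N K : Type u} [CommRing R] [AddCommGroup M] [AddCommGroup N] [AddCommGroup K]
    [Module R M] [Module R N] [Module R K] (μ : M →ₗ[R] N →ₗ[R] K) (e' : N)
    (he' : Function.Bijective (fun c : R => c • e'))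
    (h : Function.Bijective (fun m : M => μ m e')) :
    Function.Bijective (TensorProduct.lift μ) := by
  obtain ⟨b, hb⟩ : ∃ b : R ≃ₗ[R] N, ∀ c, b c = c • e' :=
    ⟨LinearEquiv.ofBijective (LinearMap.toSpanSingleton R N e') he', fun c => rfl⟩
  let g : M ≃ₗ[R] TensorProduct R M N := (TensorProduct.rid R M).symm ≪≫ₗ
    TensorProduct.congr (LinearEquiv.refl R M) b
  have hg : ∀ m, TensorProduct.lift μ (g m) = μ m e' := by
    intro m
    simp [g, hb]
  have h3 : Function.Bijective (TensorProduct.lift μ ∘ g) := by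
    convert h using 1
    funext c
    exact hg c
  exact (Function.Bijective.of_comp_iff _ g.bijective).1 h3

variable {X : Scheme.{u}} {M N K : X.Modules} (μ : ∀ U : X.Opens, Γ(M, U) →ₗ[Γ(X, U)] Γ(N, U) →ₗ[Γ(X, U)] Γ(K, U))
    (hμ : ∀ (U V : X.Opens) (i : U ⟶ V) (m : Γ(M, V)) (n : Γ(N, V)),
      K.presheaf.map i.op (μ V m n) = μ U (M.presheaf.map i.op m) (N.presheaf.map i.op n))

/-- The restriction of a bilinear map to an open subscheme. -/
noncomputable def muW (W : X.Opens) (V : (W : Scheme.{u}).Opens) :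
    Γ(M.restrict W.ι, V) →ₗ[Γ((W : Scheme.{u}), V)]
      Γ(N.restrict W.ι, V) →ₗ[Γ((W : Scheme.{u}), V)]
        Γ(K.restrict W.ι, V) :=
  LinearMap.mk₂ Γ((W : Scheme.{u}), V)
      (fun f t => (show Γ(K.restrict W.ι, V) from μ (W.ι ''ᵁ V) f t))
      (fun f f' t => LinearMap.map_add₂ (μ (W.ι ''ᵁ V)) f f' t)
      (fun c f t => LinearMap.map_smul₂ (μ (W.ι ''ᵁ V)) ((W.ι.appIso V).inv c) f t)
      (fun f t t' => map_add (μ (W.ι ''ᵁ V) f) t t')
      (fun c f t => LinearMap.map_smul (μ (W.ι ''ᵁ V) f) ((W.ι.appIso V).inv c)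
        (show Γ(N, W.ι ''ᵁ V) from t))

include hμ in
theorem muW_res (W : X.Opens) (U V : (W : Scheme.{u}).Opens) (i : U ⟶ V)
    (m : Γ(M.restrict W.ι, V)) (n : Γ(N.restrict W.ι, V)) :
    (K.restrict W.ι).presheaf.map i.op (muW μ W V m n) =
      muW μ W U ((M.restrict W.ι).presheaf.map i.op m) ((N.restrict W.ι).presheaf.map i.op n) :=
  hμ _ _ (W.ι.opensFunctor.map i) m n

/-- If near each point of `W` the module `N` has a generator multiplication by which is bijective, then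
`(M ⊗ N)|_W ⟶ K|_W` is an isomorphism. -/
theorem isIso_tensDesc_muW (W : X.Opens)
    (hW : ∀ x ∈ W, ∃ (U : X.Opens) (e : Γ(N, U)), x ∈ U ∧ TensHom.IsGen N U e ∧
      ∀ (V : X.Opens) (h : V ≤ U), Function.Bijective (fun m : Γ(M, V) => μ V m (N.presheaf.map (homOfLE h).op e))) :
    IsIso (TensHom.tensDesc (muW μ W) (muW_res μ hμ W)) := by
  refine TensHom.isIso_desc _ (fun x => ?_)
  obtain ⟨U, e, hxU, he, hU⟩ := hW x.1 x.2
  refine ⟨W.ι ⁻¹ᵁ U, hxU, fun V hV => ?_⟩
  have hle : W.ι ''ᵁ V ≤ U := (W.ι.image_mono hV).trans (Scheme.Hom.image_preimage_le _ _)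
  refine bijective_lift (muW μ W V) (show Γ(N.restrict W.ι, V) from N.presheaf.map (homOfLE hle).op e) ?_
    (hU _ hle)
  have h1 := he (W.ι ''ᵁ V) hle
  have h2 : Function.Bijective (W.ι.appIso V).inv := ConcreteCategory.bijective_of_isIso _
  exact h1.comp h2

include hμ in
theorem nonempty_restrict_iso (W : X.Opens)
    (hW : ∀ x ∈ W, ∃ (U : X.Opens) (e : Γ(N, U)), x ∈ U ∧ TensHom.IsGen N U e ∧
      ∀ (V : X.Opens) (h : V ≤ U), Function.Bijective (fun m : Γ(M, V) => μ V m (N.presheaf.map (homOfLE h).op e))) :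
    Nonempty ((CohB1.tensorMod M N).restrict W.ι ≅ K.restrict W.ι) :=
  have := isIso_tensDesc_muW μ hμ W hW
  ⟨Groth.Agent.Ega3B.TensRestrict.restrictIso W.ι _ _ ≪≫ asIso (TensHom.tensDesc (muW μ W) (muW_res μ hμ W))⟩

end K591.TensOpen
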