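import Groth.Agent.FormalB.TwistFrac
import Groth.Agent.Ega2.TwistBasic
import Groth.Agent.Constr.K591.TensOpen

/-!
# Multiplication `M(k₀)~ ⊗ O(k₁) → M(k)~`, `k = k₀ + k₁`, and where it is an isomorphism
-/

set_option autoImplicit false
universe u

open CategoryTheory CategoryTheory.Limits AlgebraicGeometry TopologicalSpace Opposite TopCat

namespace K591.TildeTens

open Groth.Agent.FormalB.GrTildeSect Groth.Agent.FormalB.GlueHom Groth.Agent.FormalB.TwistFrac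
open Groth.Agent.Ega2

variable {R A : Type u} [CommRing R] [CommRing A] [Algebra R A] {𝒜 : ℕ → Submodule R A} [GradedAlgebra 𝒜]
variable {M : Type u} [AddCommGroup M] [Module R M] [Module A M] {ℳ : ℕ → Submodule R M} [SetLike.GradedSMul 𝒜 ℳ]

theorem exists_common {k₀ k₁ k : ℤ} (hk : k₀ + k₁ = k) {U : (Proj 𝒜).Opens} (f : Γ(GrTilde.tilde 𝒜 ℳ k₀, U))
    (t : Γ(Twist.twist 𝒜 k₁, U)) (x : ProjectiveSpectrum 𝒜) (hx : x ∈ U) :
    ∃ (V : (Proj 𝒜).Opens) (h : V ≤ U) (j : ℕ) (s : A) (m : M) (_ : s ∈ 𝒜 j) (_ : m ∈ zdeg ℳ (j + k))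
      (hV : NV V s), x ∈ V ∧ ∀ y : V, tval t ⟨y.1, h y.2⟩ • gval f ⟨y.1, h y.2⟩ =
        (LocalizedModule.mk m ⟨s, hV y.1 y.2⟩ : GrTilde.LocMod 𝒜 (M := M) y.1) := by
  obtain ⟨V1, h1, e, g, m, hg, hV1, hm, -, hx1, -, hf⟩ := exists_gfrac f x hx
  obtain ⟨V2, h2, e', g', a, hg', hV2, ha, hx2, ht⟩ := exists_tfrac t x hx
  refine ⟨V1 ⊓ V2, inf_le_left.trans h1, e' + e, g' * g, a • m, SetLike.mul_mem_graded hg' hg, ?_,
    (hV2.mono inf_le_right).mul (hV1.mono inf_le_left), ⟨hx1, hx2⟩, fun y => ?_⟩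
  · rcases mem_zdeg_iff.mp ha with ⟨i, hi, hai⟩ | rfl
    · refine smul_mem_zdeg_of_eq 𝒜 hai hm ?_
      rw [hi]
      push_cast
      rw [← hk]
      ring
    · rw [zero_smul]
      exact zero_mem _
  · have e1 : gval f ⟨y.1, h1 y.2.1⟩ = _ := congrArg (fun q => gval q ⟨y.1, y.2.1⟩) hf
    have e2 : tval t ⟨y.1, h2 y.2.2⟩ = _ := congrArg (fun q => tval q ⟨y.1, y.2.2⟩) ht
    rw [e1, e2]
    exact LocalizedModule.mk_smul_mk _ _ _ _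

/-- Multiplication of a section of `M(k₀)~` by a section of `O(k₁)`. -/
noncomputable def gmul {k₀ k₁ k : ℤ} (hk : k₀ + k₁ = k) {U : (Proj 𝒜).Opens} (f : Γ(GrTilde.tilde 𝒜 ℳ k₀, U))
    (t : Γ(Twist.twist 𝒜 k₁, U)) : Γ(GrTilde.tilde 𝒜 ℳ k, U) :=
  show GrTilde.sect 𝒜 ℳ k (op U) from
  ⟨fun x => ⟨tval t x • gval f x, by
    obtain ⟨V, h, j, s, m, hs, hm, hV, hxV, H⟩ := exists_common hk f t x.1 x.2
    have h1 := locMk_mem_tildeAt (𝒜 := 𝒜) (ℳ := ℳ) (n := k) hs (hV x.1 hxV) hm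
    rw [← H ⟨x.1, hxV⟩] at h1
    exact h1⟩, by
    intro x
    obtain ⟨V, h, j, s, m, hs, hm, hV, hxV, H⟩ := exists_common hk f t x.1 x.2
    rcases mem_zdeg_iff.mp hm with ⟨i, hi, hmi⟩ | h0
    · exact ⟨V, hxV, homOfLE h, i, j, ⟨m, hmi⟩, ⟨s, hs⟩, fun y => hV y.1 y.2, Or.inl hi, fun y => H y⟩
    · exact ⟨V, hxV, homOfLE h, 0, j, ⟨m, by rw [h0]; exact zero_mem _⟩, ⟨s, hs⟩, fun y => hV y.1 y.2, Or.inr h0,
        fun y => H y⟩⟩

theorem gval_gmul {k₀ k₁ k : ℤ} (hk : k₀ + k₁ = k) {U : (Proj 𝒜).Opens} (f : Γ(GrTilde.tilde 𝒜 ℳ k₀, U))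
    (t : Γ(Twist.twist 𝒜 k₁, U)) (x : U) : gval (gmul hk f t) x = tval t x • gval f x := rfl

theorem res_gmul {k₀ k₁ k : ℤ} (hk : k₀ + k₁ = k) {U V : (Proj 𝒜).Opens} (h : V ≤ U) (f : Γ(GrTilde.tilde 𝒜 ℳ k₀, U))
    (t : Γ(Twist.twist 𝒜 k₁, U)) : res _ h (gmul hk f t) = gmul hk (res _ h f) (res _ h t) := rfl

/-- Multiplication as a bilinear map. -/
noncomputable def gmulL {k₀ k₁ k : ℤ} (hk : k₀ + k₁ = k) (U : (Proj 𝒜).Opens) :
    Γ(GrTilde.tilde 𝒜 ℳ k₀, U) →ₗ[Γ(Proj 𝒜, U)] Γ(Twist.twist 𝒜 k₁, U) →ₗ[Γ(Proj 𝒜, U)]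
      Γ(GrTilde.tilde 𝒜 ℳ k, U) :=
  LinearMap.mk₂ Γ(Proj 𝒜, U) (fun f t => gmul hk f t)
    (fun f f' t => gval_ext fun x => by
      rw [gval_gmul, gval_add, gval_add, gval_gmul, gval_gmul, smul_add])
    (fun c f t => gval_ext fun x => by
      rw [gval_gmul, gval_smul, gval_smul, gval_gmul, smul_comm])
    (fun f t t' => gval_ext fun x => by
      rw [gval_gmul, tval_add, gval_add, gval_gmul, gval_gmul, add_smul])
    (fun c f t => gval_ext fun x => by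
      rw [gval_gmul, tval_smul, gval_smul, gval_gmul, mul_smul])

/-- If `a / s` and its inverse are sections over `U` then multiplication by it is bijective. -/
theorem bijective_gmul {k₀ k₁ k : ℤ} (hk : k₀ + k₁ = k) {U : (Proj 𝒜).Opens} {i j : ℕ} {a s : A} (ha : a ∈ 𝒜 i)
    (hs : s ∈ 𝒜 j) (h : (i : ℤ) = j + k₁) (hU : NV U s) (hU' : NV U a) :
    Function.Bijective (fun f : Γ(GrTilde.tilde 𝒜 ℳ k₀, U) =>
      gmul hk f (tfrac k₁ U hs hU (mem_zdeg_of_eq h ha : a ∈ zdeg 𝒜 (j + k₁)))) := by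
  have hk' : k + -k₁ = k₀ := by omega
  have h' : (j : ℤ) = i + -k₁ := by omega
  have key : ∀ x : U, (Localization.mk a ⟨s, hU x.1 x.2⟩ : Twist.Loc 𝒜 x.1) *
      Localization.mk s ⟨a, hU' x.1 x.2⟩ = 1 := fun x => by
    rw [Localization.mk_mul, ← Localization.mk_one, Localization.mk_eq_mk_iff, Localization.r_iff_exists]
    refine ⟨1, ?_⟩
    simp [mul_comm]
  refine Function.bijective_iff_has_inverse.mpr ⟨fun f => gmul hk' f
    (tfrac (-k₁) U ha hU' (mem_zdeg_of_eq h' hs : s ∈ zdeg 𝒜 (i + -k₁))), fun f => ?_, fun f => ?_⟩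
  · apply gval_ext
    intro x
    rw [gval_gmul, gval_gmul, tval_tfrac, tval_tfrac, smul_smul, mul_comm, key, one_smul]
  · apply gval_ext
    intro x
    rw [gval_gmul, gval_gmul, tval_tfrac, tval_tfrac, smul_smul, key, one_smul]

/-- Multiplication induces an isomorphism over the open on which the twisting sheaf has local generators
`a / s` with `a`, `s` invertible. -/
theorem nonempty_restrict_iso {k₀ k₁ k : ℤ} (hk : k₀ + k₁ = k) (W : (Proj 𝒜).Opens)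
    (hW : ∀ x ∈ W, ∃ (i j : ℕ) (a s : A), a ∈ 𝒜 i ∧ s ∈ 𝒜 j ∧ (i : ℤ) = j + k₁ ∧ x ∈ Proj.basicOpen 𝒜 (a * s)) :
    Nonempty ((CohB1.tensorMod (GrTilde.tilde 𝒜 ℳ k₀) (Twist.twist 𝒜 k₁)).restrict W.ι ≅
      (GrTilde.tilde 𝒜 ℳ k).restrict W.ι) := by
  refine TensOpen.nonempty_restrict_iso (gmulL (ℳ := ℳ) hk) (fun U V i m n => rfl) W (fun x hx => ?_)
  obtain ⟨i, j, a, s, ha, hs, h, hx⟩ := hW x hx
  have hNV : NV (Proj.basicOpen 𝒜 (a * s)) (a * s) := NV.of_le le_rfl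
  have hNs : NV (Proj.basicOpen 𝒜 (a * s)) s := fun y hy hys =>
    hNV y hy (y.asHomogeneousIdeal.toIdeal.mul_mem_left _ hys)
  have hNa : NV (Proj.basicOpen 𝒜 (a * s)) a := fun y hy hya =>
    hNV y hy (y.asHomogeneousIdeal.toIdeal.mul_mem_right _ hya)
  exact ⟨Proj.basicOpen 𝒜 (a * s), tfrac k₁ _ hs hNs (mem_zdeg_of_eq h ha : a ∈ zdeg 𝒜 (j + k₁)), hx,
    TwistBasic.isGen_fracSec (𝒜 := 𝒜) k₁ ⟨a, ha⟩ ⟨s, hs⟩ h _ hNs hNa,
    fun V hV => bijective_gmul hk ha hs h (hNs.mono hV) (hNa.mono hV)⟩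

end K591.TildeTens
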