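import Mathlib.AlgebraicGeometry.ProjectiveSpectrum.Basic

/-!
# The structure morphism `Proj A ⟶ Spec A₀` on points
-/

set_option autoImplicit false
universe u

open CategoryTheory CategoryTheory.Limits AlgebraicGeometry TopologicalSpace Opposite
open HomogeneousLocalization

namespace K591.ToSpecZero

variable {A σ : Type u} [CommRing A] [SetLike σ A] [AddSubgroupClass σ A] {𝒜 : ℕ → σ} [GradedRing 𝒜]

theorem isLocalizationElem_eq {f : A} {d : ℕ} (hf : f ∈ 𝒜 d) (g : 𝒜 0) (hfg : f * (g : A) ∈ 𝒜 d) :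
    Away.isLocalizationElem hf hfg = (fromZeroRingHom 𝒜 (Submonoid.powers f) g) ^ d := by
  apply HomogeneousLocalization.val_injective
  rw [Away.val_mk, HomogeneousLocalization.val_pow]
  change _ = (HomogeneousLocalization.mk _).val ^ d
  rw [HomogeneousLocalization.val_mk, Localization.mk_pow, Localization.mk_eq_mk_iff, Localization.r_iff_exists]
  refine ⟨1, ?_⟩
  simp [mul_pow]

/-- `Proj A ⟶ Spec A₀` sends a homogeneous prime to its degree-zero part. -/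
theorem toSpecZero_mem_basicOpen_iff (x : Proj 𝒜) (g : 𝒜 0) :
    (Proj.toSpecZero 𝒜).base x ∈ PrimeSpectrum.basicOpen g ↔
      (g : A) ∉ (x : ProjectiveSpectrum 𝒜).asHomogeneousIdeal.toIdeal := by
  obtain ⟨f, d, hd, hf, z, hz⟩ : ∃ (f : A) (d : ℕ) (hd : 0 < d) (hf : f ∈ 𝒜 d)
      (z : Spec (CommRingCat.of (Away 𝒜 f))), (Proj.awayι 𝒜 f hf hd).base z = x := by
    obtain ⟨i, z, hz⟩ := (Proj.affineOpenCover 𝒜).openCover.exists_eq x
    exact ⟨i.2, i.1, i.1.2, i.2.2, z, hz⟩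
  subst hz
  have hfg : f * (g : A) ∈ 𝒜 d := by
    have := SetLike.mul_mem_graded hf g.2
    rwa [add_zero] at this
  have h1 : (Proj.toSpecZero 𝒜).base ((Proj.awayι 𝒜 f hf hd).base z) =
      (Spec.map (CommRingCat.ofHom (fromZeroRingHom 𝒜 (Submonoid.powers f)))).base z :=
    congrArg (fun q : Spec (CommRingCat.of (Away 𝒜 f)) ⟶ Spec (CommRingCat.of (𝒜 0)) => q.base z)
      (Proj.awayι_toSpecZero 𝒜 f hf hd)
  rw [h1]
  have h2 : z ∈ Proj.awayι 𝒜 f hf hd ⁻¹ᵁ Proj.basicOpen 𝒜 (f * (g : A)) ↔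
      z ∈ PrimeSpectrum.basicOpen (Away.isLocalizationElem hf hfg) := by
    rw [Proj.awayι_preimage_basicOpen 𝒜 hf hd hfg hd]
    rfl
  have hz : f ∉ (((Proj.awayι 𝒜 f hf hd).base z : Proj 𝒜) : ProjectiveSpectrum 𝒜).asHomogeneousIdeal.toIdeal := by
    have : (Proj.awayι 𝒜 f hf hd).base z ∈ (Proj.awayι 𝒜 f hf hd).opensRange := ⟨z, rfl⟩
    rw [Proj.opensRange_awayι] at this
    exact this
  have h3 : z ∈ Proj.awayι 𝒜 f hf hd ⁻¹ᵁ Proj.basicOpen 𝒜 (f * (g : A)) ↔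
      (g : A) ∉ (((Proj.awayι 𝒜 f hf hd).base z : Proj 𝒜) : ProjectiveSpectrum 𝒜).asHomogeneousIdeal.toIdeal := by
    constructor
    · exact fun h h' => h (Ideal.mul_mem_left _ _ h')
    · exact fun h h' => ((((Proj.awayι 𝒜 f hf hd).base z : Proj 𝒜) :
        ProjectiveSpectrum 𝒜).isPrime.mem_or_mem h').elim hz h
  rw [← h3, h2, isLocalizationElem_eq hf g hfg]
  change ¬ (fromZeroRingHom 𝒜 (Submonoid.powers f) g ∈ z.asIdeal) ↔
    ¬ (fromZeroRingHom 𝒜 (Submonoid.powers f) g ^ d ∈ z.asIdeal)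
  rw [not_iff_not]
  exact ⟨fun h => Ideal.pow_mem_of_mem _ h _ hd, fun h => z.isPrime.mem_of_pow_mem _ h⟩

end K591.ToSpecZero
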