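import Groth.Prelude.Def_GrTwist

/-!
# The canonical map of twisting sheaves along `Proj.map`, on sections

`app_bijective`: if `ψ : 𝒜 → ℬ` is locally (at each point `y` of `Proj ℬ`) bijective up to homogeneous denominators
not vanishing at `y`, then `GrTwist.comap ψ` is bijective on sections over opens contained in the (open) image.
-/

set_option autoImplicit false
universe u

open CategoryTheory CategoryTheory.Limits AlgebraicGeometry TopologicalSpace Opposite TopCat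
open scoped HomogeneousIdeal

namespace K591.TwistComap

open GrTwist

section frac

variable {A σ : Type u} [CommRing A] [SetLike σ A] [AddSubgroupClass σ A] {𝒜 : ℕ → σ} [GradedRing 𝒜]

/-- Every element of the degree-`n` fractions is a single fraction. -/
theorem exists_mk_of_mem (n : ℤ) (x : ProjectiveSpectrum 𝒜) {q : GrTwist.Loc 𝒜 x} (hq : q ∈ twistAt 𝒜 n x) :
    ∃ (i j : ℕ) (a s : A) (_ : a ∈ 𝒜 i) (_ : s ∈ 𝒜 j) (hx : s ∉ x.asHomogeneousIdeal.toIdeal),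
      ((i : ℤ) = j + n ∨ a = 0) ∧ q = Localization.mk a ⟨s, hx⟩ := by
  have h1 : (1 : A) ∉ x.asHomogeneousIdeal.toIdeal := fun h => x.isPrime.ne_top ((Ideal.eq_top_iff_one _).mpr h)
  induction hq using Submodule.span_induction with
  | mem q h =>
    obtain ⟨i, j, a, s, hs, hij, rfl⟩ := h
    exact ⟨i, j, a, s, a.2, s.2, hs, Or.inl hij, rfl⟩
  | zero => exact ⟨0, 0, 0, 1, zero_mem _, SetLike.GradedOne.one_mem, h1, Or.inr rfl, by simp [Localization.mk_zero]⟩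
  | add p q _ _ hp hq =>
    obtain ⟨i, j, a, s, ha, hs, hsx, hij, rfl⟩ := hp
    obtain ⟨i', j', b, t, hb, ht, htx, hij', rfl⟩ := hq
    have hst : s * t ∉ x.asHomogeneousIdeal.toIdeal := fun h => (x.isPrime.mem_or_mem h).elim hsx htx
    rcases hij with hij | rfl
    · rcases hij' with hij' | rfl
      · refine ⟨j + i', j + j', s * b + t * a, s * t, add_mem (SetLike.mul_mem_graded hs hb) ?_,
          SetLike.mul_mem_graded hs ht, hst, Or.inl (by push_cast; omega), ?_⟩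
        · have e : j' + i = j + i' := by omega
          exact e ▸ SetLike.mul_mem_graded ht ha
        · rw [Localization.add_mk]
          rfl
      · exact ⟨i, j, a, s, ha, hs, hsx, Or.inl hij, by rw [Localization.mk_zero, add_zero]⟩
    · exact ⟨i', j', b, t, hb, ht, htx, hij', by rw [Localization.mk_zero, zero_add]⟩
  | smul c q _ hq =>
    obtain ⟨i, j, a, s, ha, hs, hsx, hij, rfl⟩ := hq
    obtain ⟨c, rfl⟩ := HomogeneousLocalization.mk_surjective c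
    refine ⟨c.deg + i, c.deg + j, c.num * a, c.den * s, SetLike.mul_mem_graded c.num.2 ha,
      SetLike.mul_mem_graded c.den.2 hs, fun h => (x.isPrime.mem_or_mem h).elim c.den_mem hsx, ?_, ?_⟩
    · rcases hij with hij | rfl
      · exact Or.inl (by push_cast; omega)
      · exact Or.inr (mul_zero _)
    · rw [Algebra.smul_def, HomogeneousLocalization.algebraMap_apply, HomogeneousLocalization.val_mk,
        Localization.mk_mul]
      rfl

/-- Some homogeneous component of an element outside a homogeneous prime is outside it. -/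
theorem exists_decompose_notMem (x : ProjectiveSpectrum 𝒜) {a : A} (ha : a ∉ x.asHomogeneousIdeal.toIdeal) :
    ∃ j, (DirectSum.decompose 𝒜 a j : A) ∉ x.asHomogeneousIdeal.toIdeal := by
  classical
  by_contra! H
  apply ha
  rw [← DirectSum.sum_support_decompose 𝒜 a]
  exact sum_mem fun j _ => H j

/-- If a fraction with homogeneous numerator vanishes, its numerator is killed by a homogeneous element outside the
prime. -/
theorem exists_homog_kill (x : ProjectiveSpectrum 𝒜) {i : ℕ} {a s : A} (ha : a ∈ 𝒜 i)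
    (hx : s ∉ x.asHomogeneousIdeal.toIdeal)
    (h : (Localization.mk a ⟨s, hx⟩ : GrTwist.Loc 𝒜 x) = 0) :
    ∃ (m : ℕ) (u : A), u ∈ 𝒜 m ∧ u ∉ x.asHomogeneousIdeal.toIdeal ∧ u * a = 0 := by
  rw [Localization.mk_eq_mk', IsLocalization.mk'_eq_zero_iff] at h
  obtain ⟨u, hu⟩ := h
  obtain ⟨j, hj⟩ := exists_decompose_notMem x u.2
  refine ⟨j, _, SetLike.coe_mem _, hj, ?_⟩
  have h2 := congrArg (fun z => (DirectSum.decompose 𝒜 z (j + i) : A)) hu
  dsimp only at h2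
  rw [DirectSum.coe_decompose_mul_add_of_right_mem 𝒜 ha] at h2
  rw [h2]
  simp

end frac

section comap

variable {A σ : Type u} [CommRing A] [SetLike σ A] [AddSubgroupClass σ A] {𝒜 : ℕ → σ} [GradedRing 𝒜]
variable {B τ : Type u} [CommRing B] [SetLike τ B] [AddSubgroupClass τ B] {ℬ : ℕ → τ} [GradedRing ℬ]
variable (ψ : 𝒜 →+*ᵍ ℬ) (hψ : ℬ₊ ≤ (𝒜₊).map ψ)

/-- `ψ` is bijective up to homogeneous denominators that do not vanish at `y`. -/
structure LocBij (y : ProjectiveSpectrum ℬ) : Prop where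
  lift : ∀ (i : ℕ) (b : B), b ∈ ℬ i → ∃ (m : ℕ) (h a : A), h ∈ 𝒜 m ∧ ψ h ∉ y.asHomogeneousIdeal.toIdeal ∧
    a ∈ 𝒜 (m + i) ∧ ψ a = ψ h * b
  kill : ∀ (i : ℕ) (a : A), a ∈ 𝒜 i → ψ a = 0 → ∃ (m : ℕ) (h : A), h ∈ 𝒜 m ∧
    ψ h ∉ y.asHomogeneousIdeal.toIdeal ∧ h * a = 0

variable {ψ}

theorem locMap_mk' (y : ProjectiveSpectrum ℬ) (a s : A)
    (hs : s ∉ (ProjectiveSpectrum.comap ψ hψ y).asHomogeneousIdeal.toIdeal) :
    locMap ψ hψ y (Localization.mk a ⟨s, hs⟩) = Localization.mk (ψ a) ⟨ψ s, hs⟩ :=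
  locMap_mk ψ hψ y a ⟨s, hs⟩

theorem locMap_injOn {y : ProjectiveSpectrum ℬ} (H : LocBij ψ y) (n : ℤ) {q : GrTwist.Loc 𝒜 (ProjectiveSpectrum.comap ψ hψ y)}
    (hq : q ∈ twistAt 𝒜 n (ProjectiveSpectrum.comap ψ hψ y)) (h0 : locMap ψ hψ y q = 0) : q = 0 := by
  obtain ⟨i, j, a, s, ha, hs, hsx, -, rfl⟩ := exists_mk_of_mem n _ hq
  rw [locMap_mk'] at h0
  obtain ⟨m, u, hu, huy, hua⟩ := exists_homog_kill y (ψ.map_mem ha) _ h0
  obtain ⟨m', h, c, hh, hhy, hc, hcu⟩ := H.lift m u hu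
  have hua' : u * ψ a = 0 := hua
  have h1 : ψ (c * a) = 0 := by
    rw [map_mul, hcu, mul_assoc, hua', mul_zero]
  obtain ⟨m'', h', hh', hh'y, h2⟩ := H.kill _ (c * a) (SetLike.mul_mem_graded hc ha) h1
  have hcy : ψ c ∉ y.asHomogeneousIdeal.toIdeal := by
    rw [hcu]
    exact fun h => (y.isPrime.mem_or_mem h).elim hhy huy
  rw [Localization.mk_eq_mk', IsLocalization.mk'_eq_zero_iff]
  refine ⟨⟨h' * c, fun hm => ?_⟩, ?_⟩
  · have hm' : ψ (h' * c) ∈ y.asHomogeneousIdeal.toIdeal := hm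
    rw [map_mul] at hm'
    exact (y.isPrime.mem_or_mem hm').elim hh'y hcy
  · change h' * c * a = 0
    rw [mul_assoc, h2]

theorem mk_mem_twistAt {C ρ : Type u} [CommRing C] [SetLike ρ C] [AddSubgroupClass ρ C] {𝒞 : ℕ → ρ} [GradedRing 𝒞]
    {n : ℤ} {x : ProjectiveSpectrum 𝒞} {i j : ℕ} {a s : C} (ha : a ∈ 𝒞 i)
    (hs : s ∈ 𝒞 j) (hx : s ∉ x.asHomogeneousIdeal.toIdeal) (hij : (i : ℤ) = j + n ∨ a = 0) :
    (Localization.mk a ⟨s, hx⟩ : GrTwist.Loc 𝒞 x) ∈ twistAt 𝒞 n x := by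
  rcases hij with hij | rfl
  · exact Submodule.subset_span ⟨i, j, ⟨a, ha⟩, ⟨s, hs⟩, hx, hij, rfl⟩
  · rw [Localization.mk_zero]; exact zero_mem _

theorem locMap_injOn' {y : ProjectiveSpectrum ℬ} (H : LocBij ψ y) (n : ℤ)
    {q q' : GrTwist.Loc 𝒜 (ProjectiveSpectrum.comap ψ hψ y)}
    (hq : q ∈ twistAt 𝒜 n (ProjectiveSpectrum.comap ψ hψ y))
    (hq' : q' ∈ twistAt 𝒜 n (ProjectiveSpectrum.comap ψ hψ y))
    (h0 : locMap ψ hψ y q = locMap ψ hψ y q') : q = q' := by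
  rw [← sub_eq_zero]
  refine locMap_injOn hψ H n (sub_mem hq hq') ?_
  rw [map_sub, h0, sub_self]

omit [AddSubgroupClass σ A] [GradedRing 𝒜] in
/-- Lifting one homogeneous fraction. -/
theorem exists_lift [AddSubgroupClass σ A] [GradedRing 𝒜] {y : ProjectiveSpectrum ℬ} (H : LocBij ψ y) (n : ℤ)
    {i j : ℕ} {b t : B} (hb : b ∈ ℬ i)
    (ht : t ∈ ℬ j) (hty : t ∉ y.asHomogeneousIdeal.toIdeal) (hij : (i : ℤ) = j + n ∨ b = 0) :
    ∃ (i' j' : ℕ) (a s : A) (c : B), a ∈ 𝒜 i' ∧ s ∈ 𝒜 j' ∧ ((i' : ℤ) = j' + n ∨ a = 0) ∧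
      ψ s ∉ y.asHomogeneousIdeal.toIdeal ∧ ψ s = c * t ∧ ψ a = c * b := by
  obtain ⟨m', h', s', hh', hh'y, hs', hs't⟩ := H.lift j t ht
  rcases hij with hij | rfl
  · obtain ⟨m, h, a', hh, hhy, ha', ha'b⟩ := H.lift i b hb
    refine ⟨m' + (m + i), m + (m' + j), h' * a', h * s', ψ h * ψ h', SetLike.mul_mem_graded hh' ha',
      SetLike.mul_mem_graded hh hs', Or.inl (by push_cast; omega), ?_, ?_, ?_⟩
    · rw [map_mul, hs't]
      exact fun hm => (y.isPrime.mem_or_mem hm).elim hhy (fun hm => (y.isPrime.mem_or_mem hm).elim hh'y hty)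
    · rw [map_mul, hs't, mul_assoc]
    · rw [map_mul, ha'b]; ring
  · refine ⟨0, m' + j, 0, s', ψ h', zero_mem _, hs', Or.inr rfl, ?_, hs't, by rw [map_zero, mul_zero]⟩
    rw [hs't]
    exact fun hm => (y.isPrime.mem_or_mem hm).elim hh'y hty

theorem mk_eq_of {y : ProjectiveSpectrum ℬ} {b t c a s : B} (hs : s ∉ y.asHomogeneousIdeal.toIdeal)
    (ht : t ∉ y.asHomogeneousIdeal.toIdeal) (h1 : s = c * t) (h2 : a = c * b) :
    (Localization.mk a ⟨s, hs⟩ : GrTwist.Loc ℬ y) = Localization.mk b ⟨t, ht⟩ := by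
  subst h1 h2
  rw [Localization.mk_eq_mk_iff, Localization.r_iff_exists]
  refine ⟨1, ?_⟩
  simp only [OneMemClass.coe_one, one_mul]
  ring

theorem locMap_surjOn {y : ProjectiveSpectrum ℬ} (H : LocBij ψ y) (n : ℤ) {q : GrTwist.Loc ℬ y}
    (hq : q ∈ twistAt ℬ n y) :
    ∃ p : twistAt 𝒜 n (ProjectiveSpectrum.comap ψ hψ y), locMap ψ hψ y p.1 = q := by
  obtain ⟨i, j, b, t, hb, ht, hty, hij, rfl⟩ := exists_mk_of_mem n _ hq
  obtain ⟨i', j', a, s, c, ha, hs, hij', hsy, h1, h2⟩ := exists_lift H n hb ht hty hij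
  refine ⟨⟨Localization.mk a ⟨s, hsy⟩, mk_mem_twistAt ha hs hsy hij'⟩, ?_⟩
  rw [locMap_mk']
  exact mk_eq_of hsy hty h1 h2

section sections

variable (n : ℤ) (U : Opens (ProjectiveSpectrum.top 𝒜)) (V : Opens (ProjectiveSpectrum.top ℬ))
  (hUV : V.1 ⊆ ProjectiveSpectrum.comap ψ hψ ⁻¹' U.1)

theorem comapApp_injective (H : ∀ y : ProjectiveSpectrum ℬ, LocBij ψ y)
    (hU : ∀ x ∈ U, ∃ y ∈ V, ProjectiveSpectrum.comap ψ hψ y = x) :
    Function.Injective (comapApp ψ hψ n U V hUV) := by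
  intro s s' hss'
  refine Subtype.ext (funext fun x => Subtype.ext ?_)
  obtain ⟨x, hx⟩ := x
  obtain ⟨y, hyV, rfl⟩ := hU x hx
  have h1 := comapApp_apply_coe ψ hψ n U V hUV s ⟨y, hyV⟩
  have h2 := comapApp_apply_coe ψ hψ n U V hUV s' ⟨y, hyV⟩
  rw [hss'] at h1
  have h3 := h1.symm.trans h2
  exact locMap_injOn' hψ (H y) n (s.1 ⟨ProjectiveSpectrum.comap ψ hψ y, hUV hyV⟩).2
    (s'.1 ⟨ProjectiveSpectrum.comap ψ hψ y, hUV hyV⟩).2 h3

theorem comapApp_surjective (hinj : Function.Injective (ProjectiveSpectrum.comap ψ hψ))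
    (hopen : IsOpenMap (ProjectiveSpectrum.comap ψ hψ)) (H : ∀ y : ProjectiveSpectrum ℬ, LocBij ψ y)
    (hU : ∀ x ∈ U, ∃ y ∈ V, ProjectiveSpectrum.comap ψ hψ y = x) :
    Function.Surjective (comapApp ψ hψ n U V hUV) := by
  intro t
  choose Q hQ using fun y : V => locMap_surjOn hψ (H y.1) n (t.1 y).2
  have hex : ∀ x : U, ∃ (q : twistAt 𝒜 n x.1), ∀ (y : V) (h : ProjectiveSpectrum.comap ψ hψ y.1 = x.1),
      h ▸ Q y = q := by
    rintro ⟨x, hx⟩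
    obtain ⟨y, hyV, rfl⟩ := hU x hx
    refine ⟨Q ⟨y, hyV⟩, ?_⟩
    rintro ⟨y', hy'⟩ h
    have h' : y' = y := hinj h
    subst h'
    rfl
  choose S hS using hex
  have hS' : ∀ y : V, S ⟨ProjectiveSpectrum.comap ψ hψ y.1, hUV y.2⟩ = Q y := fun y =>
    (hS ⟨ProjectiveSpectrum.comap ψ hψ y.1, hUV y.2⟩ y rfl).symm
  have hSloc : (isLocFracN 𝒜 n).pred S := by
    rintro ⟨x, hx⟩
    obtain ⟨y, hyV, rfl⟩ := hU x hx
    obtain ⟨W, hyW, iW, i, j, b, t₁, hb, hij, hW⟩ := t.2 ⟨y, hyV⟩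
    obtain ⟨i', j', a, s, c, ha, hs, hij', hsy, h1, h2⟩ := exists_lift (H y) n b.2 t₁.2 (hb ⟨y, hyW⟩) hij
    have hW₂U : (⟨ProjectiveSpectrum.comap ψ hψ ''
          (W ⊓ ProjectiveSpectrum.basicOpen ℬ (ψ s) : Opens (ProjectiveSpectrum.top ℬ)).1,
        hopen _ (W ⊓ ProjectiveSpectrum.basicOpen ℬ (ψ s) : Opens (ProjectiveSpectrum.top ℬ)).2⟩ :
          Opens (ProjectiveSpectrum.top 𝒜)) ≤ U := by
      rintro _ ⟨z, hz, rfl⟩
      exact hUV (iW.le hz.1)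
    refine ⟨⟨_, hopen _ (W ⊓ ProjectiveSpectrum.basicOpen ℬ (ψ s) : Opens (ProjectiveSpectrum.top ℬ)).2⟩,
      ⟨y, ⟨hyW, hsy⟩, rfl⟩, homOfLE hW₂U, i', j', ⟨a, ha⟩, ⟨s, hs⟩, ?_, hij', ?_⟩
    · rintro ⟨_, z, hz, rfl⟩
      exact hz.2
    · rintro ⟨_, z, hz, rfl⟩
      have hzV : z ∈ V := iW.le hz.1
      have hsz : s ∉ (ProjectiveSpectrum.comap ψ hψ z).asHomogeneousIdeal.toIdeal := hz.2
      have h3 : (S ⟨ProjectiveSpectrum.comap ψ hψ z, hUV hzV⟩).1 = (Q ⟨z, hzV⟩).1 :=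
        congrArg Subtype.val (hS' ⟨z, hzV⟩)
      have h4 : (Q ⟨z, hzV⟩).1 = Localization.mk a ⟨s, hsz⟩ := by
        refine locMap_injOn' hψ (H z) n (Q ⟨z, hzV⟩).2 (mk_mem_twistAt ha hs hsz hij') ?_
        rw [hQ ⟨z, hzV⟩, locMap_mk' hψ z a s hsz]
        have h5 : (t.1 ⟨z, hzV⟩).1 = Localization.mk b.1 ⟨t₁.1, hb ⟨z, hz.1⟩⟩ := hW ⟨z, hz.1⟩
        rw [h5]
        exact (mk_eq_of hz.2 (hb ⟨z, hz.1⟩) h1 h2).symm
      exact h3.trans h4
  refine ⟨⟨S, hSloc⟩, ?_⟩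
  refine Subtype.ext (funext fun y => Subtype.ext ?_)
  rw [comapApp_apply_coe]
  change locMap ψ hψ y.1 (S ⟨ProjectiveSpectrum.comap ψ hψ y.1, hUV y.2⟩).1 = _
  rw [hS' y]
  exact hQ y

/-- Bijectivity on sections. -/
theorem comapApp_bijective (hinj : Function.Injective (ProjectiveSpectrum.comap ψ hψ))
    (hopen : IsOpenMap (ProjectiveSpectrum.comap ψ hψ)) (H : ∀ y : ProjectiveSpectrum ℬ, LocBij ψ y)
    (hU : ∀ x ∈ U, ∃ y ∈ V, ProjectiveSpectrum.comap ψ hψ y = x) :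
    Function.Bijective (comapApp ψ hψ n U V hUV) :=
  ⟨comapApp_injective hψ n U V hUV H hU, comapApp_surjective hψ n U V hUV hinj hopen H hU⟩

end sections

/-- Bijectivity on sections. -/
theorem app_bijective (hinj : Function.Injective (ProjectiveSpectrum.comap ψ hψ))
    (hopen : IsOpenMap (ProjectiveSpectrum.comap ψ hψ)) (H : ∀ y : ProjectiveSpectrum ℬ, LocBij ψ y) (n : ℤ)
    (U : (Proj 𝒜).Opens) (hU : ∀ x : ProjectiveSpectrum 𝒜, x ∈ U → ∃ y, ProjectiveSpectrum.comap ψ hψ y = x) :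
    Function.Bijective ((comap ψ hψ n).app U) :=
  comapApp_bijective hψ n U (Proj.map ψ hψ ⁻¹ᵁ U) Set.Subset.rfl hinj hopen H (fun x hx => by
    obtain ⟨y, rfl⟩ := hU x hx
    exact ⟨y, hx, rfl⟩)

end comap

end K591.TwistComap
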